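import Cfsg.Agent.KFacts.MulDef
import Cfsg.Prelude.Def_SporadicB

-- merged: Cfsg.Agent.KFacts.MulFi24.Clique
section

/-!
# Double covers and cliques

`X` acts on `D`, `π : L → X` a perfect double cover with kernel `{1, c}`. `R` is an invariant relation on `D` such that
`X` is transitive on the points, on the pairs and on the triples of pairwise `R`-related points. Suppose that the
stabilizer of a point is perfect without double cover, and that the stabilizer of an `R`-pair has no subgroup of index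
2. Then the stabilizer in `X` of a clique has even index (`Clique.false`).

* `exists_char`: the character of the preimage of a perfect subgroup without double cover.
* `exists_clique_char`: the character of the stabilizer of a clique with value `-1` at `c`.
-/

set_option autoImplicit false

namespace Cfsg.Agent.KFacts.MulFi24.Clique

open Subgroup Cfsg.Agent.KFacts.MulTwo Cfsg.Agent.KFacts.MulDef

/-- no subgroup of index 2 -/
def NoSign (P : Type*) [Group P] : Prop := ∀ (f : P →* ℤˣ) (x : P), f x = 1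

theorem NoSign.of_perfect {P : Type*} [Group P] (h : commutator P = ⊤) : NoSign P := by
  intro f x
  have : x ∈ commutator P := by rw [h]; exact mem_top _
  exact Abelianization.commutator_subset_ker f this

theorem NoSign.congr {P Q : Type*} [Group P] [Group Q] (h : NoSign P) (e : P ≃* Q) : NoSign Q := by
  intro f x
  have := h (f.comp e.toMonoidHom) (e.symm x)
  simpa using this

section char

variable {L X : Type*} [Group L] [Group X] {π : L →* X} {c : L}

theorem mem_comap_ker (hd : Dbl π c) (Y : Subgroup X) : c ∈ Y.comap π := by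
  rw [mem_comap, (hd.ker c).2 (Or.inr rfl)]
  exact Y.one_mem

/-- The sign character of the preimage of a perfect subgroup without double cover. -/
theorem exists_char (hd : Dbl π c) [Finite L] {Y : Subgroup X} (hY : NoDouble Y)
    (hp : commutator Y = ⊤) : ∃ χ : (Y.comap π) →* ℤˣ, χ ⟨c, mem_comap_ker hd Y⟩ = -1 := by
  classical
  set P : Subgroup L := Y.comap π with hP
  let c' : P := ⟨c, mem_comap_ker hd Y⟩
  have hcen : ∀ x : P, c' * x = x * c' := fun x => Subtype.ext (hd.cen x)
  have hsq : c' * c' = 1 := Subtype.ext hd.sq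
  let ρ : P →* Y := π.subgroupComap Y
  have hρ : ∀ x : P, ((ρ x : Y) : X) = π x := fun x => rfl
  have hρs : Function.Surjective ρ := by
    intro y
    obtain ⟨l, hl⟩ := hd.surj y
    refine ⟨⟨l, ?_⟩, Subtype.ext hl⟩
    rw [hP, mem_comap, hl]; exact y.2
  have hρk : ∀ x : P, ρ x = 1 ↔ x = 1 ∨ x = c' := by
    intro x
    have h1 := hd.ker (x : L)
    constructor
    · intro h
      have h2 : π (x : L) = 1 := by rw [← hρ, h]; rfl
      rcases h1.1 h2 with h3 | h3
      · left; exact Subtype.ext h3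
      · right; exact Subtype.ext h3
    · rintro (rfl | rfl)
      · exact map_one _
      · exact Subtype.ext ((hd.ker c).2 (Or.inr rfl))
  set K : Subgroup P := commutator P with hK
  have hmap : K.map ρ = ⊤ := by
    rw [hK, commutator_def, Subgroup.map_commutator, ← MonoidHom.range_eq_map,
      MonoidHom.range_eq_top.2 hρs, ← commutator_def, hp]
  have hcover : ∀ x : P, x ∈ K ∨ c' * x ∈ K := by
    intro x
    have h1 : ρ x ∈ K.map ρ := by rw [hmap]; exact mem_top _
    obtain ⟨k, hk, hkx⟩ := h1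
    have h2 : ρ (x * k⁻¹) = 1 := by rw [map_mul, map_inv, hkx, mul_inv_cancel]
    rcases (hρk _).1 h2 with h3 | h3
    · left
      rw [mul_inv_eq_one.1 h3]; exact hk
    · right
      have h4 : x = c' * k := by rw [← h3]; group
      rw [h4, ← mul_assoc, hsq, one_mul]; exact hk
  have hcK : c' ∉ K := by
    intro hc
    have htop : commutator P = ⊤ := by
      rw [eq_top_iff]
      intro x _
      rcases hcover x with h | h
      · exact h
      · have := K.mul_mem hc h
        rwa [← mul_assoc, hsq, one_mul] at this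
    have hdd : Dbl ρ c' :=
      { ne := fun h => hd.ne (congrArg Subtype.val h)
        sq := hsq
        cen := hcen
        perf := htop
        surj := hρs
        ker := hρk }
    exact hY.false hdd
  have key : ∀ x : P, x ∉ K → c' * x ∈ K := fun x hx => (hcover x).resolve_left hx
  have key2 : ∀ x : P, c' * x ∈ K → x ∉ K := by
    intro x h1 h2
    apply hcK
    have := K.mul_mem h1 (K.inv_mem h2)
    rwa [mul_assoc, mul_inv_cancel, mul_one] at this
  refine ⟨{ toFun := fun x => if x ∈ K then 1 else -1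
            map_one' := by simp
            map_mul' := ?_ }, ?_⟩
  · intro x y
    by_cases h1 : x ∈ K
    · by_cases h2 : y ∈ K
      · rw [if_pos h1, if_pos h2, if_pos (K.mul_mem h1 h2), one_mul]
      · have h3 : x * y ∉ K := fun h => h2 ((K.mul_mem_cancel_left h1).1 h)
        rw [if_pos h1, if_neg h2, if_neg h3, one_mul]
    · by_cases h2 : y ∈ K
      · have h3 : x * y ∉ K := fun h => h1 ((K.mul_mem_cancel_right h2).1 h)
        rw [if_neg h1, if_pos h2, if_neg h3, mul_one]
      · have h3 : x * y ∈ K := by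
          have h4 := K.mul_mem (key x h1) (key y h2)
          have h5 : c' * x * (c' * y) = x * y := by
            calc c' * x * (c' * y) = c' * (x * c') * y := by simp only [mul_assoc]
              _ = c' * (c' * x) * y := by rw [hcen x]
              _ = (c' * c') * (x * y) := by simp only [mul_assoc]
              _ = x * y := by rw [hsq, one_mul]
          rwa [h5] at h4
        rw [if_neg h1, if_neg h2, if_pos h3]
        decide
  · show (if c' ∈ K then (1 : ℤˣ) else -1) = -1
    rw [if_neg hcK]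

end char

/-! ### Sign cocycles -/

section cocycle

variable {L X D : Type*} [Group L] [Group X] [MulAction X D]

/-- A sign cocycle with value `-1` at `c`. -/
structure Cocycle (π : L →* X) (c : L) (σ : L → D → ℤˣ) : Prop where
  mul : ∀ (l l' : L) (d : D), σ (l * l') d = σ l (π l' • d) * σ l' d
  neg : ∀ d : D, σ c d = -1

theorem units_mul_self (u : ℤˣ) : u * u = 1 := by
  rcases Int.units_eq_one_or u with rfl | rfl <;> decide

theorem eq_of_mul_eq_one {u v : ℤˣ} (h : u * v = 1) : u = v := by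
  rcases Int.units_eq_one_or u with rfl | rfl <;> rcases Int.units_eq_one_or v with rfl | rfl <;>
    first | rfl | exact absurd h (by decide)

theorem exists_cocycle {π : L →* X} {c : L} (hd : Dbl π c) {d₀ : D}
    (htr : ∀ d : D, ∃ l : L, π l • d₀ = d)
    (χ : ((MulAction.stabilizer X d₀).comap π) →* ℤˣ)
    (hχ : χ ⟨c, mem_comap_ker hd _⟩ = -1) : ∃ σ : L → D → ℤˣ, Cocycle π c σ ∧
      ∀ (l : L) (hl : l ∈ (MulAction.stabilizer X d₀).comap π), σ l d₀ = χ ⟨l, hl⟩ := by
  classical
  choose m hm using htr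
  have hmem : ∀ (l : L) (d : D), (m (π l • d))⁻¹ * l * m d ∈ (MulAction.stabilizer X d₀).comap π := by
    intro l d
    rw [mem_comap, MulAction.mem_stabilizer_iff, map_mul, map_mul, map_inv, mul_smul, mul_smul, hm,
      inv_smul_eq_iff, hm]
  refine ⟨fun l d => χ ⟨_, hmem l d⟩, ⟨?_, ?_⟩, ?_⟩
  · intro l l' d
    show χ _ = χ _ * χ _
    rw [← map_mul]
    congr 1
    apply Subtype.ext
    show (m (π (l * l') • d))⁻¹ * (l * l') * m d =
      (m (π l • (π l' • d)))⁻¹ * l * m (π l' • d) * ((m (π l' • d))⁻¹ * l' * m d)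
    rw [map_mul, mul_smul]
    group
  · intro d
    show χ _ = -1
    rw [← hχ]
    congr 1
    apply Subtype.ext
    show (m (π c • d))⁻¹ * c * m d = c
    have h1 : π c = 1 := (hd.ker c).2 (Or.inr rfl)
    rw [h1, one_smul, mul_assoc, hd.cen (m d), inv_mul_cancel_left]
  · intro l hl
    show χ _ = _
    have h1 : π l • d₀ = d₀ := by
      rw [mem_comap, MulAction.mem_stabilizer_iff] at hl; exact hl
    have hm0 : m d₀ ∈ (MulAction.stabilizer X d₀).comap π := by
      rw [mem_comap, MulAction.mem_stabilizer_iff]; exact hm d₀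
    have h2 : (⟨(m (π l • d₀))⁻¹ * l * m d₀, hmem l d₀⟩ : (MulAction.stabilizer X d₀).comap π) =
        ⟨m d₀, hm0⟩⁻¹ * ⟨l, hl⟩ * ⟨m d₀, hm0⟩ := by
      apply Subtype.ext
      show (m (π l • d₀))⁻¹ * l * m d₀ = (m d₀)⁻¹ * l * m d₀
      rw [h1]
    rw [h2, map_mul, map_mul, map_inv, mul_comm (χ ⟨m d₀, hm0⟩)⁻¹, mul_assoc, inv_mul_cancel, mul_one]

/-- Two points whose common stabilizer has no subgroup of index 2 have the same signs. -/
theorem Cocycle.eq_of_noSign {π : L →* X} {c : L} (hd : Dbl π c) {σ : L → D → ℤˣ} (h : Cocycle π c σ)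
    {d e : D} (hn : NoSign ↥(MulAction.stabilizer X d ⊓ MulAction.stabilizer X e)) (l : L)
    (h1 : π l • d = d) (h2 : π l • e = e) : σ l d = σ l e := by
  classical
  set Y : Subgroup X := MulAction.stabilizer X d ⊓ MulAction.stabilizer X e with hY
  have hY' : ∀ x : Y, (x : X) • d = d ∧ (x : X) • e = e := fun x => x.2
  choose s hs using hd.surj
  have hk : ∀ l l' : L, π l = π l' → π l • d = d → π l • e = e → σ l d * σ l e = σ l' d * σ l' e := by
    intro l l' hll h1 h2
    have h3 : π (l * l'⁻¹) = 1 := by rw [map_mul, map_inv, hll, mul_inv_cancel]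
    rcases (hd.ker _).1 h3 with h4 | h4
    · rw [mul_inv_eq_one.1 h4]
    · have h5 : l = c * l' := by rw [← h4]; group
      rw [h5, h.mul, h.mul, h.neg, h.neg]
      simp
  let f : Y →* ℤˣ :=
    { toFun := fun x => σ (s x) d * σ (s x) e
      map_one' := by
        have h0 : σ 1 d = 1 ∧ σ 1 e = 1 := by
          constructor
          · have := h.mul 1 1 d
            rw [map_one, one_smul, one_mul] at this
            exact (mul_eq_right.mp this.symm)
          · have := h.mul 1 1 e
            rw [map_one, one_smul, one_mul] at this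
            exact (mul_eq_right.mp this.symm)
        have := hk (s ((1 : Y) : X)) 1 (by rw [hs, map_one]; rfl) (by rw [hs]; exact (hY' 1).1)
          (by rw [hs]; exact (hY' 1).2)
        rw [this, h0.1, h0.2, one_mul]
      map_mul' := by
        intro x y
        have h3 := hk (s ((x * y : Y) : X)) (s x * s y) (by rw [hs, map_mul, hs, hs]; rfl)
          (by rw [hs]; exact (hY' _).1) (by rw [hs]; exact (hY' _).2)
        rw [h3, h.mul, h.mul, hs, (hY' y).1, (hY' y).2]
        exact mul_mul_mul_comm _ _ _ _ }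
  have h3 := hn f ⟨π l, h1, h2⟩
  have h4 : σ l d * σ l e = 1 := by
    rw [hk l (s (π l)) (hs _).symm h1 h2]; exact h3
  exact eq_of_mul_eq_one h4

/-- The hypotheses on the relation `R`: transitivity on pairs and triples, signs on pairs. -/
structure Hyp (π : L →* X) (c : L) (σ : L → D → ℤˣ) (R : D → D → Prop) (d₀ e₀ f₀ : D) : Prop
    extends Cocycle π c σ where
  symm : ∀ x y, R x y → R y x
  inv : ∀ (l : L) (x y : D), R x y → R (π l • x) (π l • y)
  de : R d₀ e₀
  df : R d₀ f₀
  ef : R e₀ f₀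
  pair : ∀ x y, R x y → ∃ l : L, π l • d₀ = x ∧ π l • e₀ = y
  triple : ∀ x y z, R x y → R x z → R y z → ∃ l : L, π l • d₀ = x ∧ π l • e₀ = y ∧ π l • f₀ = z
  sgn : ∀ l : L, π l • d₀ = d₀ → π l • e₀ = e₀ → σ l d₀ = σ l e₀

/-- The sign function on the edges. -/
theorem Hyp.exists_edge {π : L →* X} {c : L} {σ : L → D → ℤˣ} {R : D → D → Prop} {d₀ e₀ f₀ : D}
    (h : Hyp π c σ R d₀ e₀ f₀) : ∃ ε : D → D → ℤˣ,
      (∀ x y, R x y → ε x y = ε y x) ∧
      (∀ (l : L) (x y : D), R x y → ε (π l • x) (π l • y) = ε x y * σ l x * σ l y) ∧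
      (∀ x y z, R x y → R x z → R y z → ε x y * ε y z * ε z x = 1) := by
  classical
  have uu := units_mul_self
  -- the function
  have hex : ∀ x y : D, ∃ l : L, R x y → π l • d₀ = x ∧ π l • e₀ = y := by
    intro x y
    by_cases hR : R x y
    · obtain ⟨l, hl⟩ := h.pair x y hR
      exact ⟨l, fun _ => hl⟩
    · exact ⟨1, fun hh => absurd hh hR⟩
  choose m hm using hex
  let ε : D → D → ℤˣ := fun x y => σ (m x y) d₀ * σ (m x y) e₀
  -- independence of the choice
  have hind : ∀ (l : L) (x y : D), R x y → π l • d₀ = x → π l • e₀ = y →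
      ε x y = σ l d₀ * σ l e₀ := by
    intro l x y hR h1 h2
    obtain ⟨h3, h4⟩ := hm x y hR
    set n := m x y with hn
    have e1 : π (n⁻¹ * l) • d₀ = d₀ := by
      rw [map_mul, map_inv, mul_smul, h1, inv_smul_eq_iff, h3]
    have e2 : π (n⁻¹ * l) • e₀ = e₀ := by
      rw [map_mul, map_inv, mul_smul, h2, inv_smul_eq_iff, h4]
    have e3 := h.sgn _ e1 e2
    have e4 : σ (n * (n⁻¹ * l)) d₀ = σ n d₀ * σ (n⁻¹ * l) d₀ := by rw [h.mul, e1]
    have e5 : σ (n * (n⁻¹ * l)) e₀ = σ n e₀ * σ (n⁻¹ * l) e₀ := by rw [h.mul, e2]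
    rw [mul_inv_cancel_left] at e4 e5
    show σ n d₀ * σ n e₀ = σ l d₀ * σ l e₀
    rw [e4, e5, e3, mul_mul_mul_comm, uu, mul_one]
  have heq : ∀ (l : L) (x y : D), R x y → ε (π l • x) (π l • y) = ε x y * σ l x * σ l y := by
    intro l x y hR
    obtain ⟨h3, h4⟩ := hm x y hR
    rw [hind (l * m x y) _ _ (h.inv l x y hR) (by rw [map_mul, mul_smul, h3])
      (by rw [map_mul, mul_smul, h4]), h.mul, h.mul, h3, h4]
    show σ l x * σ (m x y) d₀ * (σ l y * σ (m x y) e₀) = σ (m x y) d₀ * σ (m x y) e₀ * σ l x * σ l y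
    ac_rfl
  -- symmetry
  let η : ℤˣ := ε d₀ e₀ * ε e₀ d₀
  have hη : ∀ x y, R x y → ε x y * ε y x = η := by
    intro x y hR
    obtain ⟨l, rfl, rfl⟩ := h.pair x y hR
    rw [heq l _ _ h.de, heq l _ _ (h.symm _ _ h.de)]
    calc ε d₀ e₀ * σ l d₀ * σ l e₀ * (ε e₀ d₀ * σ l e₀ * σ l d₀)
        = ε d₀ e₀ * ε e₀ d₀ * (σ l d₀ * σ l d₀) * (σ l e₀ * σ l e₀) := by
          ac_rfl
      _ = _ := by rw [uu, uu, mul_one, mul_one]
  let κ : ℤˣ := ε d₀ e₀ * ε e₀ f₀ * ε f₀ d₀
  have hκ : ∀ x y z, R x y → R x z → R y z → ε x y * ε y z * ε z x = κ := by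
    intro x y z h1 h2 h3
    obtain ⟨l, rfl, rfl, rfl⟩ := h.triple x y z h1 h2 h3
    rw [heq l _ _ h.de, heq l _ _ h.ef, heq l _ _ (h.symm _ _ h.df)]
    calc ε d₀ e₀ * σ l d₀ * σ l e₀ * (ε e₀ f₀ * σ l e₀ * σ l f₀) * (ε f₀ d₀ * σ l f₀ * σ l d₀)
        = ε d₀ e₀ * ε e₀ f₀ * ε f₀ d₀ * (σ l d₀ * σ l d₀) * (σ l e₀ * σ l e₀) * (σ l f₀ * σ l f₀) := by
          ac_rfl
      _ = _ := by rw [uu, uu, uu, mul_one, mul_one, mul_one]
  have hη1 : η = 1 := by
    have k1 := hκ _ _ _ h.de h.df h.ef
    have k2 := hκ _ _ _ h.df h.de (h.symm _ _ h.ef)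
    have k3 : (ε d₀ e₀ * ε e₀ f₀ * ε f₀ d₀) * (ε d₀ f₀ * ε f₀ e₀ * ε e₀ d₀) = η * η * η := by
      calc (ε d₀ e₀ * ε e₀ f₀ * ε f₀ d₀) * (ε d₀ f₀ * ε f₀ e₀ * ε e₀ d₀)
          = (ε d₀ e₀ * ε e₀ d₀) * (ε d₀ f₀ * ε f₀ d₀) * (ε e₀ f₀ * ε f₀ e₀) := by ac_rfl
        _ = η * η * η := by rw [hη _ _ h.de, hη _ _ h.df, hη _ _ h.ef]
    rw [k1, k2, uu, uu, one_mul] at k3
    exact k3.symm
  have hsymm : ∀ x y, R x y → ε x y = ε y x := by
    intro x y hR
    have h1 := hη x y hR
    rw [hη1] at h1
    exact eq_of_mul_eq_one h1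
  refine ⟨fun x y => κ * ε x y, ?_, ?_, ?_⟩
  · intro x y hR
    show κ * _ = κ * _
    rw [hsymm x y hR]
  · intro l x y hR
    show κ * _ = κ * _ * _ * _
    rw [heq l x y hR]
    simp only [mul_assoc]
  · intro x y z h1 h2 h3
    show κ * ε x y * (κ * ε y z) * (κ * ε z x) = 1
    calc κ * ε x y * (κ * ε y z) * (κ * ε z x) = (κ * κ) * κ * (ε x y * ε y z * ε z x) := by
          ac_rfl
      _ = 1 := by rw [hκ x y z h1 h2 h3, uu, one_mul, uu]

/-- The character of the stabilizer of a clique. -/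
theorem Hyp.exists_clique_char {π : L →* X} {c : L} {σ : L → D → ℤˣ} {R : D → D → Prop} {d₀ e₀ f₀ : D}
    (h : Hyp π c σ R d₀ e₀ f₀) {B : Set D} {b₀ : D} (hb₀ : b₀ ∈ B)
    (hB : ∀ x ∈ B, ∀ y ∈ B, x ≠ y → R x y) (N : Subgroup L)
    (hN : ∀ l ∈ N, ∀ x ∈ B, π l • x ∈ B) (hπc : π c = 1) : ∃ χ : N →* ℤˣ, ∀ hc : c ∈ N, χ ⟨c, hc⟩ = -1 := by
  classical
  have uu := units_mul_self
  obtain ⟨ε, h1, h2, h3⟩ := h.exists_edge
  let s : D → ℤˣ := fun x => if x = b₀ then 1 else ε b₀ x
  have hs : ∀ x ∈ B, ∀ y ∈ B, x ≠ y → s x * s y = ε x y := by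
    intro x hx y hy hxy
    show (if x = b₀ then 1 else ε b₀ x) * (if y = b₀ then 1 else ε b₀ y) = ε x y
    by_cases hxb : x = b₀
    · subst hxb
      rw [if_pos rfl, if_neg (Ne.symm hxy), one_mul]
    · by_cases hyb : y = b₀
      · subst hyb
        rw [if_pos rfl, if_neg hxb, mul_one]
        exact h1 _ _ (hB _ hb₀ _ hx (Ne.symm hxb))
      · rw [if_neg hxb, if_neg hyb]
        have r1 := hB _ hb₀ _ hx (Ne.symm hxb)
        have r2 := hB _ hb₀ _ hy (Ne.symm hyb)
        have r3 := hB _ hx _ hy hxy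
        have h4 := h3 b₀ x y r1 r2 r3
        rw [← h1 _ _ r2] at h4
        calc ε b₀ x * ε b₀ y = ε b₀ x * ε b₀ y * (ε x y * ε x y) := by rw [uu, mul_one]
          _ = (ε b₀ x * ε x y * ε b₀ y) * ε x y := by ac_rfl
          _ = ε x y := by rw [h4, one_mul]
  -- independence of the point
  have hind : ∀ l ∈ N, ∀ x ∈ B, ∀ y ∈ B,
      σ l x * s x * s (π l • x) = σ l y * s y * s (π l • y) := by
    intro l hl x hx y hy
    by_cases hxy : x = y
    · rw [hxy]
    · have e1 := hs x hx y hy hxy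
      have e2 := hs _ (hN l hl x hx) _ (hN l hl y hy) (fun hh => hxy (smul_left_cancel _ hh))
      rw [h2 l x y (hB x hx y hy hxy)] at e2
      have e3 : (σ l x * s x * s (π l • x)) * (σ l y * s y * s (π l • y)) = 1 := by
        calc (σ l x * s x * s (π l • x)) * (σ l y * s y * s (π l • y))
            = (s x * s y) * (s (π l • x) * s (π l • y)) * (σ l x * σ l y) := by
              ac_rfl
          _ = ε x y * (ε x y * σ l x * σ l y) * (σ l x * σ l y) := by rw [e1, e2]
          _ = (ε x y * ε x y) * (σ l x * σ l x) * (σ l y * σ l y) := by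
              ac_rfl
          _ = 1 := by simp only [uu]
      exact eq_of_mul_eq_one e3
  refine ⟨{ toFun := fun l => σ l b₀ * s b₀ * s (π (l : L) • b₀)
            map_one' := ?_
            map_mul' := ?_ }, ?_⟩
  · have h0 : σ 1 b₀ = 1 := by
      have := h.mul 1 1 b₀
      rw [map_one, one_smul, one_mul] at this
      exact (mul_eq_right.mp this.symm)
    show σ ((1 : N) : L) b₀ * s b₀ * s (π ((1 : N) : L) • b₀) = 1
    rw [Subgroup.coe_one, map_one, one_smul, h0, one_mul, uu]
  · intro l l'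
    have hl' := hN _ l'.2 b₀ hb₀
    have e1 := hind _ l.2 b₀ hb₀ _ hl'
    show σ ((l : L) * (l' : L)) b₀ * s b₀ * s (π ((l : L) * (l' : L)) • b₀) =
      σ (l : L) b₀ * s b₀ * s (π (l : L) • b₀) * (σ (l' : L) b₀ * s b₀ * s (π (l' : L) • b₀))
    rw [e1, h.mul, map_mul, mul_smul]
    calc σ (l : L) (π (l' : L) • b₀) * σ (l' : L) b₀ * s b₀ * s (π (l : L) • π (l' : L) • b₀)
        = σ (l : L) (π (l' : L) • b₀) * σ (l' : L) b₀ * s b₀ * s (π (l : L) • π (l' : L) • b₀) *
          (s (π (l' : L) • b₀) * s (π (l' : L) • b₀)) := by rw [uu, mul_one]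
      _ = _ := by ac_rfl
  · intro hc
    show σ c b₀ * s b₀ * s (π c • b₀) = -1
    rw [hπc, one_smul, h.neg, mul_assoc, uu, mul_one]

end cocycle

/-! ### The criterion -/

/-- Transitivity on points, related pairs and related triples. -/
structure Geo (X : Type*) {D : Type*} [Group X] [MulAction X D] (R : D → D → Prop) (d₀ e₀ f₀ : D) :
    Prop where
  symm : ∀ x y, R x y → R y x
  inv : ∀ (g : X) (x y : D), R x y → R (g • x) (g • y)
  de : R d₀ e₀
  df : R d₀ f₀
  ef : R e₀ f₀
  trans : ∀ d : D, ∃ g : X, g • d₀ = d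
  pair : ∀ x y, R x y → ∃ g : X, g • d₀ = x ∧ g • e₀ = y
  triple : ∀ x y z, R x y → R x z → R y z → ∃ g : X, g • d₀ = x ∧ g • e₀ = y ∧ g • f₀ = z

/-- **The clique criterion**: the stabilizer of a clique has even index in a group with a perfect double cover. -/
theorem Geo.noDouble {X D : Type*} [Group X] [MulAction X D] {R : D → D → Prop} {d₀ e₀ f₀ : D}
    (h : Geo X R d₀ e₀ f₀) (hst : NoDouble ↥(MulAction.stabilizer X d₀))
    (hperf : commutator ↥(MulAction.stabilizer X d₀) = ⊤)
    (hns : NoSign ↥(MulAction.stabilizer X d₀ ⊓ MulAction.stabilizer X e₀))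
    {B : Set D} (hne : B.Nonempty) (hB : ∀ x ∈ B, ∀ y ∈ B, x ≠ y → R x y) (N : Subgroup X)
    (hN : ∀ g ∈ N, ∀ x ∈ B, g • x ∈ B) (hodd : ¬ 2 ∣ N.index) : NoDouble X := by
  intro L _ _ π c hd
  obtain ⟨χ, hχ⟩ := exists_char hd hst hperf
  have lift : ∀ g : X, ∃ l : L, π l = g := hd.surj
  obtain ⟨σ, hσ, -⟩ := exists_cocycle (D := D) hd (d₀ := d₀)
    (fun d => by
      obtain ⟨g, hg⟩ := h.trans d
      obtain ⟨l, rfl⟩ := lift g
      exact ⟨l, hg⟩) χ hχ
  have hH : Hyp π c σ R d₀ e₀ f₀ :=
    { mul := hσ.mul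
      neg := hσ.neg
      symm := h.symm
      inv := fun l => h.inv (π l)
      de := h.de
      df := h.df
      ef := h.ef
      pair := fun x y hR => by
        obtain ⟨g, hg⟩ := h.pair x y hR
        obtain ⟨l, rfl⟩ := lift g
        exact ⟨l, hg⟩
      triple := fun x y z h1 h2 h3 => by
        obtain ⟨g, hg⟩ := h.triple x y z h1 h2 h3
        obtain ⟨l, rfl⟩ := lift g
        exact ⟨l, hg⟩
      sgn := fun l h1 h2 => hσ.eq_of_noSign hd hns l h1 h2 }
  obtain ⟨b₀, hb₀⟩ := hne
  have hπc : π c = 1 := (hd.ker c).2 (Or.inr rfl)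
  have hcN : c ∈ N.comap π := by
    rw [mem_comap, hπc]; exact N.one_mem
  obtain ⟨ψ, hψ⟩ := hH.exists_clique_char hb₀ hB (N.comap π) (fun l hl x hx => hN _ hl x hx) hπc
  have hidx : (N.comap π).index = N.index := N.index_comap_of_surjective hd.surj
  have h1 := hd.toCtr.hom_eq_one (P := N.comap π) hcN (by rw [hidx]; exact hodd) ψ
  rw [hψ hcN] at h1
  exact absurd h1 (by decide)

end Cfsg.Agent.KFacts.MulFi24.Clique

end

-- merged: Cfsg.Agent.KFacts.MulFi24.Double
section

/-! # A non-split double cover of a perfect group is perfect -/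

set_option autoImplicit false

namespace Cfsg.Agent.KFacts.MulFi24.Double

open Subgroup Cfsg Cfsg.Agent.KFacts.MulFi24.Clique

theorem perfect_of_double {H K : Type*} [Group H] [Group K] (h : IsNonsplitDoubleCover H K)
    (hK : commutator K = ⊤) : commutator H = ⊤ := by
  obtain ⟨h1, ⟨e⟩, h3⟩ := h
  obtain ⟨z, hz, hz'⟩ : ∃ z ∈ center H, z ≠ 1 ∧ ∀ x ∈ center H, x = 1 ∨ x = z := by
    obtain ⟨a, b, hab, huniv⟩ := Nat.card_eq_two_iff.1 h1
    have key : ∀ x : center H, x = a ∨ x = b := by
      intro x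
      have : x ∈ ({a, b} : Set (center H)) := by rw [huniv]; trivial
      simpa using this
    rcases key 1 with h | h
    · refine ⟨b, b.2, fun hb => hab ?_, fun x hx => ?_⟩
      · rw [← h]; exact Subtype.ext hb.symm
      · rcases key ⟨x, hx⟩ with h' | h'
        · left; rw [← h] at h'; exact congrArg Subtype.val h'
        · right; exact congrArg Subtype.val h'
    · refine ⟨a, a.2, fun hb => hab ?_, fun x hx => ?_⟩
      · rw [← h]; exact Subtype.ext hb
      · rcases key ⟨x, hx⟩ with h' | h'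
        · right; exact congrArg Subtype.val h'
        · left; rw [← h] at h'; exact congrArg Subtype.val h'
  let ρ : H →* K := e.toMonoidHom.comp (QuotientGroup.mk' (center H))
  have hρs : Function.Surjective ρ := e.surjective.comp (QuotientGroup.mk'_surjective _)
  have hρk : ∀ x : H, ρ x = 1 → x ∈ center H := by
    intro x hx
    have : QuotientGroup.mk' (center H) x = 1 := by
      apply e.injective
      rw [map_one]; exact hx
    exact (QuotientGroup.eq_one_iff x).1 this
  have hcover : ∀ x : H, ∃ k ∈ commutator H, ∃ c ∈ center H, x = c * k := by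
    intro x
    have h4 : ρ x ∈ (commutator H).map ρ := by
      rw [commutator_def, Subgroup.map_commutator, ← MonoidHom.range_eq_map,
        MonoidHom.range_eq_top.2 hρs, ← commutator_def, hK]
      exact mem_top _
    obtain ⟨k, hk, hkx⟩ := h4
    refine ⟨k, hk, x * k⁻¹, hρk _ ?_, by group⟩
    rw [map_mul, map_inv, hkx, mul_inv_cancel]
  by_contra hne
  have hz1 : z ∉ commutator H := by
    intro hzc
    apply hne
    rw [eq_top_iff]
    intro x _
    obtain ⟨k, hk, c, hc, rfl⟩ := hcover x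
    rcases hz'.2 c hc with rfl | rfl
    · rw [one_mul]; exact hk
    · exact mul_mem hzc hk
  apply h3 (commutator H)
  apply Subgroup.isComplement'_of_disjoint_and_mul_eq_univ
  · rw [Subgroup.disjoint_def]
    intro x hx hx'
    rcases hz'.2 x hx with rfl | rfl
    · rfl
    · exact absurd hx' hz1
  · rw [Set.eq_univ_iff_forall]
    intro x
    obtain ⟨k, hk, c, hc, rfl⟩ := hcover x
    exact Set.mul_mem_mul hc hk

theorem noSign_of_double {H K : Type*} [Group H] [Group K] (h : IsNonsplitDoubleCover H K)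
    (hK : commutator K = ⊤) : NoSign H := NoSign.of_perfect (perfect_of_double h hK)

end Cfsg.Agent.KFacts.MulFi24.Double

end
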